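import Mathlib

/-! The long exact sequence of `Tor` in the first variable, as vanishing statements. -/

set_option autoImplicit false
universe u

open CategoryTheory CategoryTheory.Limits MonoidalCategory TensorProduct

namespace Groth.Agent.TorBal94

variable {R : Type u} [CommRing R]

/-- `Y ⊗ (projective resolution of S)`. -/
noncomputable def cx (Y S : ModuleCat.{u} R) : ChainComplex (ModuleCat.{u} R) ℕ :=
  (((tensoringLeft (ModuleCat.{u} R)).obj Y).mapHomologicalComplex _).obj (projectiveResolution S).complex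

/-- functoriality in the first variable -/
noncomputable def cxMap {Y Z : ModuleCat.{u} R} (f : Y ⟶ Z) (S : ModuleCat.{u} R) : cx Y S ⟶ cx Z S :=
  (NatTrans.mapHomologicalComplex ((tensoringLeft (ModuleCat.{u} R)).map f) _).app (projectiveResolution S).complex

theorem isZero_tor_iff (Y S : ModuleCat.{u} R) (i : ℕ) :
    IsZero (((Tor (ModuleCat.{u} R) i).obj Y).obj S) ↔ IsZero ((cx Y S).homology i) :=
  ((projectiveResolution S).isoLeftDerivedObj ((tensoringLeft (ModuleCat.{u} R)).obj Y) i).isZero_iff

variable {M₁ M₂ M₃ : Type u} [AddCommGroup M₁] [Module R M₁] [AddCommGroup M₂] [Module R M₂]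
  [AddCommGroup M₃] [Module R M₃] (f : M₁ →ₗ[R] M₂) (g : M₂ →ₗ[R] M₃)

theorem cxMap_comp_eq_zero (h : g ∘ₗ f = 0) (S : ModuleCat.{u} R) :
    cxMap (ModuleCat.ofHom f) S ≫ cxMap (ModuleCat.ofHom g) S = 0 := by
  refine HomologicalComplex.hom_ext _ _ fun j => ?_
  apply ModuleCat.hom_ext
  refine TensorProduct.ext' fun x y => ?_
  show (g (f x)) ⊗ₜ[R] y = 0
  rw [show g (f x) = (g ∘ₗ f) x from rfl, h, LinearMap.zero_apply, TensorProduct.zero_tmul]

/-- the short exact sequence of complexes -/
theorem shortExact_cx (hf : Function.Injective f) (hfg : Function.Exact f g) (hg : Function.Surjective g)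
    (S : ModuleCat.{u} R) :
    (ShortComplex.mk (cxMap (ModuleCat.ofHom f) S) (cxMap (ModuleCat.ofHom g) S)
      (cxMap_comp_eq_zero f g hfg.linearMap_comp_eq_zero S)).ShortExact := by
  refine HomologicalComplex.shortExact_of_degreewise_shortExact _ fun j => ?_
  let Q := (projectiveResolution S).complex.X j
  haveI : Module.Projective R Q := (IsProjective.iff_projective (R := R) (P := Q)).2
    ((projectiveResolution S).projective j)
  refine ShortComplex.ShortExact.mk' ?_ ?_ ?_
  · rw [ShortComplex.moduleCat_exact_iff_range_eq_ker]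
    exact (LinearMap.exact_iff.1 (rTensor_exact Q hfg hg)).symm
  · rw [ModuleCat.mono_iff_injective]
    exact Module.Flat.rTensor_preserves_injective_linearMap (M := Q) f hf
  · rw [ModuleCat.epi_iff_surjective]
    exact LinearMap.rTensor_surjective Q hg

/-- vanishing for the kernel -/
theorem isZero_tor_left (hf : Function.Injective f) (hfg : Function.Exact f g) (hg : Function.Surjective g)
    (S : ModuleCat.{u} R) (i : ℕ) (h2 : IsZero (((Tor (ModuleCat.{u} R) i).obj (ModuleCat.of R M₂)).obj S))
    (h3 : IsZero (((Tor (ModuleCat.{u} R) (i + 1)).obj (ModuleCat.of R M₃)).obj S)) :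
    IsZero (((Tor (ModuleCat.{u} R) i).obj (ModuleCat.of R M₁)).obj S) := by
  rw [isZero_tor_iff] at h2 h3 ⊢
  have := (shortExact_cx f g hf hfg hg S).homology_exact₁ (i + 1) i rfl
  exact this.isZero_of_both_zeros (h3.eq_of_src _ _) (h2.eq_of_tgt _ _)

/-- vanishing for the middle term -/
theorem isZero_tor_middle (hf : Function.Injective f) (hfg : Function.Exact f g) (hg : Function.Surjective g)
    (S : ModuleCat.{u} R) (i : ℕ) (h1 : IsZero (((Tor (ModuleCat.{u} R) i).obj (ModuleCat.of R M₁)).obj S))
    (h3 : IsZero (((Tor (ModuleCat.{u} R) i).obj (ModuleCat.of R M₃)).obj S)) :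
    IsZero (((Tor (ModuleCat.{u} R) i).obj (ModuleCat.of R M₂)).obj S) := by
  rw [isZero_tor_iff] at h1 h3 ⊢
  have := (shortExact_cx f g hf hfg hg S).homology_exact₂ i
  exact this.isZero_of_both_zeros (h1.eq_of_src _ _) (h3.eq_of_tgt _ _)

/-- flat modules in the first variable -/
theorem isZero_tor_of_flat_left (M : Type u) [AddCommGroup M] [Module R M] [Module.Flat R M]
    (S : ModuleCat.{u} R) (i : ℕ) :
    IsZero (((Tor (ModuleCat.{u} R) (i + 1)).obj (ModuleCat.of R M)).obj S) := by
  rw [isZero_tor_iff, ← HomologicalComplex.exactAt_iff_isZero_homology]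
  rw [HomologicalComplex.exactAt_iff' _ (i + 2) (i + 1) i (by simp) (by simp)]
  have h := (projectiveResolution S).complex_exactAt_succ i
  rw [HomologicalComplex.exactAt_iff' _ (i + 2) (i + 1) i (by simp) (by simp),
    ShortComplex.moduleCat_exact_iff_range_eq_ker] at h
  rw [ShortComplex.moduleCat_exact_iff_range_eq_ker]
  exact (LinearMap.exact_iff.1 (Module.Flat.lTensor_exact M (LinearMap.exact_iff.2 h.symm))).symm

end Groth.Agent.TorBal94
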